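import Mathlib
import Cfsg.Prelude.Def_GeometricClasses
import Cfsg.Agent.Lib.TensorMax.Basic

/-!
# Ranks in the stabiliser of a tensor decomposition

If `A` is not scalar then `A ⊗ B - s` has rank at least the size of `B`; if `A` is scalar its rank is a
multiple of the size of `A`.
-/

set_option autoImplicit false

namespace Cfsg.Agent.Lib.TensorDerange

open Matrix
open scoped Kronecker

variable {K : Type*} [Field K] {a b : ℕ}

/-- Vectors on `Fin a × Fin b` as matrices. -/
def toRect (v : Fin a × Fin b → K) : Matrix (Fin a) (Fin b) K := Matrix.of fun i j => v (i, j)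

theorem kron_mulVec (A : Matrix (Fin a) (Fin a) K) (B : Matrix (Fin b) (Fin b) K)
    (v : Fin a × Fin b → K) (i : Fin a) (j : Fin b) :
    ((A ⊗ₖ B) *ᵥ v) (i, j) = (A * toRect v * Bᵀ) i j := by
  simp only [Matrix.mulVec, dotProduct, Matrix.kroneckerMap_apply, Matrix.mul_apply, toRect,
    Matrix.of_apply, Matrix.transpose_apply, Finset.sum_mul, Fintype.sum_prod_type]
  rw [Finset.sum_comm]
  exact Finset.sum_congr rfl fun k _ => Finset.sum_congr rfl fun l _ => by ring

theorem exists_moved_row {A : Matrix (Fin a) (Fin a) K}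
    (hA : ∀ c : K, A ≠ c • (1 : Matrix (Fin a) (Fin a) K)) :
    ∃ φ : Fin a → K, ∀ t : K, φ ᵥ* A ≠ t • φ := by
  by_contra h
  push Not at h
  obtain ⟨c, hc⟩ := Cfsg.Agent.Lib.TensorMax.exists_scalar_of_eigen A.vecMulLinear
    (fun φ => h φ)
  refine hA c (Matrix.ext fun i j => ?_)
  have h1 : Pi.single i (1 : K) ᵥ* A = c • Pi.single i (1 : K) := hc _
  have h2 := congrFun h1 j
  rw [Matrix.single_one_vecMul, Pi.smul_apply, Pi.single_apply] at h2
  rw [Matrix.smul_apply, Matrix.one_apply, smul_eq_mul]
  show A.row i j = _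
  rw [h2, smul_eq_mul]
  exact congrArg (c * ·) (if_congr eq_comm rfl rfl)

theorem rank_kron_sub_ge {A : Matrix (Fin a) (Fin a) K} {B : Matrix (Fin b) (Fin b) K}
    (hA : ∀ c : K, A ≠ c • (1 : Matrix (Fin a) (Fin a) K)) (hB : IsUnit B.det) (s : K) :
    b ≤ (A ⊗ₖ B - s • 1).rank := by
  classical
  obtain ⟨φ, hφ⟩ := exists_moved_row hA
  have hφ0 : φ ≠ 0 := fun h => hφ 0 (by rw [h]; simp)
  set L := Submodule.span K ({φ} : Set (Fin a → K))
  have hnot : φ ᵥ* A ∉ L := fun h => by
    obtain ⟨t, ht⟩ := Submodule.mem_span_singleton.1 h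
    exact hφ t ht.symm
  obtain ⟨f, hfA, hfL⟩ := Submodule.exists_dual_map_eq_bot_of_notMem hnot inferInstance
  set T := LinearMap.ker f with hT
  have hφT : φ ∈ T := by
    rw [hT, LinearMap.mem_ker]
    have : f φ ∈ L.map f := Submodule.mem_map_of_mem (Submodule.mem_span_singleton_self φ)
    rw [hfL] at this
    exact (Submodule.mem_bot K).1 this
  have hTd : Module.finrank K T = a - 1 := by
    have h1 := f.finrank_range_add_finrank_ker
    rw [Module.finrank_fintype_fun_eq_card, Fintype.card_fin] at h1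
    have h2 : LinearMap.range f = ⊤ := LinearMap.range_eq_top.2 fun y =>
      ⟨(y * (f (φ ᵥ* A))⁻¹) • (φ ᵥ* A), by
        rw [map_smul, smul_eq_mul, inv_mul_cancel_right₀ hfA]⟩
    rw [h2, finrank_top, Module.finrank_self] at h1
    rw [hT]; omega
  set bT := Module.finBasis K T
  let Φ : (Fin a × Fin b → K) →ₗ[K] (Fin (Module.finrank K T) → Fin b → K) :=
    { toFun := fun v k => (bT k : Fin a → K) ᵥ* toRect v
      map_add' := fun v w => by
        funext k
        show (bT k : Fin a → K) ᵥ* toRect (v + w) = _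
        rw [show toRect (v + w) = toRect v + toRect w from rfl, Matrix.vecMul_add]
        rfl
      map_smul' := fun c v => by
        funext k
        show (bT k : Fin a → K) ᵥ* toRect (c • v) = _
        rw [show toRect (c • v) = c • toRect v from rfl, Matrix.vecMul_smul]
        rfl }
  set N := (A ⊗ₖ B - s • 1).mulVecLin
  have hinj : Function.Injective (Φ.comp (LinearMap.ker N).subtype) := by
    refine (injective_iff_map_eq_zero _).2 fun v hv => ?_
    have hTz : ∀ t ∈ T, t ᵥ* toRect (v : Fin a × Fin b → K) = 0 := by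
      intro t ht
      have h1 : (⟨t, ht⟩ : T) = ∑ k, bT.repr ⟨t, ht⟩ k • bT k := (bT.sum_repr _).symm
      have h2 := congrArg Subtype.val h1
      simp only [Submodule.coe_sum, Submodule.coe_smul] at h2
      rw [h2, Matrix.sum_vecMul]
      refine Finset.sum_eq_zero fun k _ => ?_
      have hk : (bT k : Fin a → K) ᵥ* toRect (v : Fin a × Fin b → K) = 0 := congrFun hv k
      rw [Matrix.smul_vecMul, hk, smul_zero]
    have hker : A * toRect (v : Fin a × Fin b → K) * Bᵀ = s • toRect (v : Fin a × Fin b → K) := by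
      ext i j
      have := congrFun (LinearMap.mem_ker.1 v.2) (i, j)
      rw [Matrix.mulVecLin_apply, Matrix.sub_mulVec, Matrix.smul_mulVec, Matrix.one_mulVec,
        Pi.sub_apply, Pi.zero_apply, sub_eq_zero, kron_mulVec] at this
      exact this
    have hA0 : (φ ᵥ* A) ᵥ* toRect (v : Fin a × Fin b → K) = 0 := by
      have h1 := congrArg (fun M => φ ᵥ* M) hker
      simp only [Matrix.vecMul_smul, hTz φ hφT, smul_zero] at h1
      rw [← Matrix.vecMul_vecMul, ← Matrix.vecMul_vecMul] at h1
      have h2 := congrArg (fun w => w ᵥ* (Bᵀ)⁻¹) h1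
      simp only [Matrix.zero_vecMul] at h2
      rw [Matrix.vecMul_vecMul ((φ ᵥ* A) ᵥ* _), Matrix.mul_nonsing_inv _
        (by rw [Matrix.det_transpose]; exact hB), Matrix.vecMul_one] at h2
      exact h2
    have hall : ∀ w : Fin a → K, w ᵥ* toRect (v : Fin a × Fin b → K) = 0 := by
      intro w
      have hw : w - (f w * (f (φ ᵥ* A))⁻¹) • (φ ᵥ* A) ∈ T := by
        rw [hT, LinearMap.mem_ker, map_sub, map_smul, smul_eq_mul, inv_mul_cancel_right₀ hfA,
          sub_self]
      have h1 := hTz _ hw
      rw [Matrix.sub_vecMul, Matrix.smul_vecMul, hA0, smul_zero, sub_zero] at h1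
      exact h1
    refine Subtype.ext (funext fun ij => ?_)
    have := congrFun (hall (Pi.single ij.1 1)) ij.2
    rw [Matrix.single_one_vecMul] at this
    exact this
  have h1 := LinearMap.finrank_le_finrank_of_injective hinj
  rw [Module.finrank_pi_fintype, Finset.sum_const, Finset.card_univ, Fintype.card_fin,
    Module.finrank_fintype_fun_eq_card, Fintype.card_fin, hTd, smul_eq_mul] at h1
  have h2 := N.finrank_range_add_finrank_ker
  rw [Module.finrank_fintype_fun_eq_card, Fintype.card_prod, Fintype.card_fin, Fintype.card_fin] at h2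
  show b ≤ Module.finrank K (LinearMap.range N)
  have ha : 1 ≤ a := by
    rcases Nat.eq_zero_or_pos a with rfl | h
    · exact absurd (funext fun i => i.elim0) hφ0
    · exact h
  obtain ⟨a', rfl⟩ := Nat.exists_eq_add_of_le ha
  simp only [Nat.add_sub_cancel_left, add_mul, one_mul] at h1 h2
  omega

theorem rank_one_kron (C : Matrix (Fin b) (Fin b) K) :
    ((1 : Matrix (Fin a) (Fin a) K) ⊗ₖ C).rank = a * C.rank := by
  classical
  set N := ((1 : Matrix (Fin a) (Fin a) K) ⊗ₖ C).mulVecLin
  have hap : ∀ (v : Fin a × Fin b → K) i j, N v (i, j) = (C *ᵥ fun l => v (i, l)) j := by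
    intro v i j
    show (((1 : Matrix (Fin a) (Fin a) K) ⊗ₖ C) *ᵥ v) (i, j) = _
    rw [kron_mulVec, Matrix.one_mul]
    simp [Matrix.mul_apply, Matrix.mulVec, dotProduct, toRect, mul_comm]
  let e : LinearMap.ker N ≃ₗ[K] (Fin a → LinearMap.ker C.mulVecLin) :=
    { toFun := fun v i => ⟨fun l => (v : Fin a × Fin b → K) (i, l), by
        refine funext fun j => ?_
        rw [Matrix.mulVecLin_apply, ← hap]
        exact congrFun (LinearMap.mem_ker.1 v.2) (i, j)⟩
      map_add' := fun v w => rfl
      map_smul' := fun c v => rfl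
      invFun := fun w => ⟨fun ij => (w ij.1 : Fin b → K) ij.2, by
        refine funext fun ij => ?_
        obtain ⟨i, j⟩ := ij
        rw [hap]
        exact congrFun (LinearMap.mem_ker.1 (w i).2) j⟩
      left_inv := fun v => rfl
      right_inv := fun w => rfl }
  have h1 := e.finrank_eq
  rw [Module.finrank_pi_fintype, Finset.sum_const, Finset.card_univ, Fintype.card_fin,
    smul_eq_mul] at h1
  have h2 := N.finrank_range_add_finrank_ker
  have h3 := C.mulVecLin.finrank_range_add_finrank_ker
  rw [Module.finrank_fintype_fun_eq_card] at h2 h3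
  rw [Fintype.card_prod, Fintype.card_fin, Fintype.card_fin] at h2
  rw [Fintype.card_fin] at h3
  have h4 : a * b = a * Module.finrank K (LinearMap.range C.mulVecLin) +
      a * Module.finrank K (LinearMap.ker C.mulVecLin) := by
    rw [← mul_add, h3]
  show Module.finrank K (LinearMap.range N) = a * Module.finrank K (LinearMap.range C.mulVecLin)
  omega

end Cfsg.Agent.Lib.TensorDerange
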