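import Mathlib
import Cfsg.Agent.Lib.TensorDerange.Kron

/-!
# Elements without a conjugate in the stabiliser of a tensor decomposition
-/

set_option autoImplicit false

namespace Cfsg.Agent.Lib.TensorDerange

open Matrix
open scoped Kronecker

variable {F : Type*} [Field F] {n a b : ℕ}

/-- The matrix of `A ⊗ B` transported along `e`. -/
def kmat (e : Fin n ≃ Fin a × Fin b) (A : Matrix (Fin a) (Fin a) F) (B : Matrix (Fin b) (Fin b) F) :
    Matrix (Fin n) (Fin n) F :=
  (A ⊗ₖ B).submatrix e e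

theorem mem_tensor_iff (e : Fin n ≃ Fin a × Fin b) (P y : GL (Fin n) F) :
    y ∈ Cfsg.Geo.tensorProductSubgroup a b e P ↔
      ∃ (A : GL (Fin a) F) (B : GL (Fin b) F),
        ((P⁻¹ * y * P : GL (Fin n) F) : Matrix (Fin n) (Fin n) F) = kmat e A B := by
  constructor
  · rintro ⟨z, ⟨k, ⟨A, B, hk⟩, rfl⟩, rfl⟩
    refine ⟨A, B, ?_⟩
    simp only [MulEquiv.coe_toMonoidHom, MulAut.conj_apply]
    rw [show P⁻¹ * (P * Cfsg.Geo.glReindex e.symm k * P⁻¹) * P = Cfsg.Geo.glReindex e.symm k by group]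
    show Matrix.reindexAlgEquiv F F e.symm (k : Matrix _ _ F) = _
    rw [hk]
    rfl
  · rintro ⟨A, B, h⟩
    set kr : GL (Fin a × Fin b) F := (Cfsg.Geo.glReindex e.symm).symm (P⁻¹ * y * P) with hkr
    refine ⟨Cfsg.Geo.glReindex e.symm kr, ⟨kr, ⟨A, B, ?_⟩, rfl⟩, ?_⟩
    · have h1 : Matrix.reindexAlgEquiv F F e.symm (kr : Matrix _ _ F) = kmat e A B := by
        rw [← h]
        exact congrArg (fun g : GL (Fin n) F => (g : Matrix (Fin n) (Fin n) F))
          ((Cfsg.Geo.glReindex e.symm).apply_symm_apply (P⁻¹ * y * P))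
      apply (Matrix.reindexAlgEquiv F F e.symm).injective
      rw [h1]
      rfl
    · simp only [hkr, MulEquiv.coe_toMonoidHom, MulEquiv.apply_symm_apply, MulAut.conj_apply]
      group

theorem rank_conj {m : Type*} [Fintype m] [DecidableEq m] {S : Matrix m m F} (hS : IsUnit S.det)
    (M : Matrix m m F) (s : F) : (S * M * S⁻¹ - s • 1).rank = (M - s • 1).rank := by
  have h : S * M * S⁻¹ - s • 1 = S * (M - s • 1) * S⁻¹ := by
    rw [Matrix.mul_sub, Matrix.sub_mul, Matrix.mul_smul, Matrix.mul_one, Matrix.smul_mul,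
      Matrix.mul_nonsing_inv S hS]
  rw [h, Matrix.rank_mul_eq_left_of_isUnit_det _ _ (Matrix.isUnit_nonsing_inv_det S hS),
    Matrix.rank_mul_eq_right_of_isUnit_det _ _ hS]

theorem rank_kmat_sub (e : Fin n ≃ Fin a × Fin b) (A : Matrix (Fin a) (Fin a) F)
    (B : Matrix (Fin b) (Fin b) F) (s : F) : (kmat e A B - s • 1).rank = (A ⊗ₖ B - s • 1).rank := by
  have h : kmat e A B - s • 1 = (A ⊗ₖ B - s • 1).submatrix e e := by
    ext i j
    simp [kmat, Matrix.one_apply, e.injective.eq_iff]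
  rw [h, Matrix.rank_submatrix]

/-- The criterion. -/
theorem not_conj_mem (hb : 0 < b) (e : Fin n ≃ Fin a × Fin b) (P x : GL (Fin n) F) (r : ℕ) (s : F)
    (hcase : ((x : Matrix (Fin n) (Fin n) F) - s • 1).rank < b ∨
      (x ^ r = 1 ∧ ∀ A : GL (Fin a) F, (∃ c : F, (A : Matrix (Fin a) (Fin a) F) ^ r = c • 1) →
        ∃ c : F, (A : Matrix (Fin a) (Fin a) F) = c • 1))
    {K : Type*} [Field K] (f : F →+* K) (w : K)
    (hnd : ¬ a ∣ ((x : Matrix (Fin n) (Fin n) F).map f - w • 1).rank) :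
    ¬ ∃ g : GL (Fin n) F, g⁻¹ * x * g ∈ Cfsg.Geo.tensorProductSubgroup a b e P := by
  classical
  rintro ⟨g, hg⟩
  obtain ⟨A, B, hAB⟩ := (mem_tensor_iff e P _).1 hg
  set S : GL (Fin n) F := g * P with hS
  set M := kmat e (A : Matrix (Fin a) (Fin a) F) (B : Matrix (Fin b) (Fin b) F) with hM
  have hx : (x : Matrix (Fin n) (Fin n) F) =
      (S : Matrix (Fin n) (Fin n) F) * M * (S : Matrix (Fin n) (Fin n) F)⁻¹ := by
    rw [← hAB, ← Matrix.coe_units_inv, ← Units.val_mul, ← Units.val_mul, hS]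
    congr 1
    group
  have hSu : IsUnit (S : Matrix (Fin n) (Fin n) F).det := (Matrix.isUnit_iff_isUnit_det _).1 S.isUnit
  have hBu : IsUnit (B : Matrix (Fin b) (Fin b) F).det := (Matrix.isUnit_iff_isUnit_det _).1 B.isUnit
  have hsc : ∃ c : F, (A : Matrix (Fin a) (Fin a) F) = c • 1 := by
    rcases hcase with h | ⟨hxr, h⟩
    · by_contra hne
      push Not at hne
      rw [hx, rank_conj hSu, hM, rank_kmat_sub] at h
      exact absurd (rank_kron_sub_ge hne hBu s) (not_le.2 h)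
    · refine h A ?_
      have hpw : ∀ k : ℕ, ((P⁻¹ * (g⁻¹ * x * g) * P) ^ k : GL (Fin n) F).val =
          kmat e ((A : Matrix (Fin a) (Fin a) F) ^ k) ((B : Matrix (Fin b) (Fin b) F) ^ k) := by
        intro k
        induction k with
        | zero => simp [kmat, Matrix.one_kronecker_one]
        | succ k ih =>
          rw [pow_succ, Units.val_mul, ih, hAB, hM, kmat, kmat, kmat, Matrix.submatrix_mul_equiv,
            ← Matrix.mul_kronecker_mul, ← pow_succ, ← pow_succ]
      have h1 := hpw r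
      rw [show P⁻¹ * (g⁻¹ * x * g) * P = S⁻¹ * x * S⁻¹⁻¹ by rw [hS]; group, conj_pow, hxr, mul_one,
        mul_inv_cancel, Units.val_one] at h1
      have hBr : ((B : Matrix (Fin b) (Fin b) F) ^ r).det ≠ 0 := by
        rw [Matrix.det_pow]; exact pow_ne_zero _ hBu.ne_zero
      obtain ⟨j, j', hjj⟩ : ∃ j j', ((B : Matrix (Fin b) (Fin b) F) ^ r) j j' ≠ 0 := by
        by_contra hall
        push Not at hall
        haveI : Nonempty (Fin b) := ⟨⟨0, hb⟩⟩
        exact hBr (by rw [show (B : Matrix (Fin b) (Fin b) F) ^ r = 0 from Matrix.ext hall,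
          Matrix.det_zero])
      refine ⟨(1 : Matrix (Fin b) (Fin b) F) j j' * (((B : Matrix (Fin b) (Fin b) F) ^ r) j j')⁻¹,
        Matrix.ext fun i k => ?_⟩
      have h2 := congrFun (congrFun h1.symm (e.symm (i, j))) (e.symm (k, j'))
      simp only [kmat, Matrix.submatrix_apply, Equiv.apply_symm_apply,
        Matrix.kroneckerMap_apply, Matrix.one_apply, e.symm.injective.eq_iff, Prod.mk.injEq] at h2
      rw [Matrix.smul_apply, Matrix.one_apply, Matrix.one_apply, smul_eq_mul]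
      field_simp
      rw [h2]
      by_cases hik : i = k <;> simp [hik]
  obtain ⟨c, hc⟩ := hsc
  apply hnd
  have hM' : M = kmat e 1 (c • (B : Matrix (Fin b) (Fin b) F)) := by
    rw [hM, hc, kmat, kmat, Matrix.smul_kronecker, Matrix.kronecker_smul]
  set S' : Matrix (Fin n) (Fin n) K := (S : Matrix (Fin n) (Fin n) F).map f
  have hS'u : IsUnit S'.det := by
    show IsUnit (f.mapMatrix (S : Matrix (Fin n) (Fin n) F)).det
    rw [← RingHom.map_det]; exact hSu.map f
  have hinv : ((S : Matrix (Fin n) (Fin n) F)⁻¹).map f = S'⁻¹ := by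
    refine (Matrix.inv_eq_right_inv ?_).symm
    rw [← Matrix.map_mul, Matrix.mul_nonsing_inv _ hSu]
    simp
  have hmap : M.map f = kmat e 1 ((c • (B : Matrix (Fin b) (Fin b) F)).map f) := by
    rw [hM', kmat, kmat, ← Matrix.submatrix_map]
    congr 1
    ext ⟨i, j⟩ ⟨k, l⟩
    simp only [Matrix.map_apply, Matrix.kroneckerMap_apply, Matrix.one_apply, map_mul]
    split <;> simp
  rw [hx, Matrix.map_mul, Matrix.map_mul, hinv, rank_conj hS'u, hmap, rank_kmat_sub]
  refine ⟨((c • (B : Matrix (Fin b) (Fin b) F)).map f - w • 1).rank, ?_⟩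
  rw [← rank_one_kron]
  congr 1
  ext ⟨i, j⟩ ⟨k, l⟩
  simp only [Matrix.sub_apply, Matrix.smul_apply, Matrix.kroneckerMap_apply, Matrix.one_apply,
    smul_eq_mul, Prod.mk.injEq, mul_sub]
  by_cases h1 : i = k <;> by_cases h2 : j = l <;> simp [h1, h2]

end Cfsg.Agent.Lib.TensorDerange
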