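import Mathlib

/-!
# Blocks of prime order with a simple eigenvalue
-/

set_option autoImplicit false

namespace Cfsg.Agent.Lib.TensorDerange

open Matrix Polynomial

variable {F : Type*} [Field F]

/-- The kernel of `leftMulMatrix - gen` over the extension is a line. -/
theorem finrank_ker_leftMul {E : Type*} [Field E] [Algebra F E] (pb : PowerBasis F E) :
    Module.finrank E (LinearMap.ker
      ((Algebra.leftMulMatrix pb.basis pb.gen).map (algebraMap F E) - pb.gen • 1).mulVecLin) = 1 := by
  classical
  have hd : 0 < pb.dim := pb.dim_pos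
  set M := (Algebra.leftMulMatrix pb.basis pb.gen).map (algebraMap F E) with hM
  set L : Fin pb.dim := ⟨pb.dim - 1, by omega⟩
  let π : LinearMap.ker (M - pb.gen • 1).mulVecLin →ₗ[E] E :=
    (LinearMap.proj L).comp (LinearMap.ker (M - pb.gen • 1).mulVecLin).subtype
  have hinj : Function.Injective π := by
    refine (injective_iff_map_eq_zero _).2 fun v hv => ?_
    have hL : (v : Fin pb.dim → E) L = 0 := hv
    have hMv : ∀ i, (M *ᵥ (v : Fin pb.dim → E)) i = pb.gen * (v : Fin pb.dim → E) i := by
      intro i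
      have := congrFun (LinearMap.mem_ker.1 v.2) i
      rw [Matrix.mulVecLin_apply, Matrix.sub_mulVec, Matrix.smul_mulVec, Matrix.one_mulVec,
        Pi.sub_apply, Pi.zero_apply, sub_eq_zero] at this
      exact this
    have step : ∀ (k : ℕ) (hk : k + 1 < pb.dim), (v : Fin pb.dim → E) ⟨k + 1, hk⟩ = 0 →
        (v : Fin pb.dim → E) ⟨k, by omega⟩ = 0 := by
      intro k hk h0
      have := hMv ⟨k + 1, hk⟩
      rw [h0, mul_zero, Matrix.mulVec, dotProduct] at this
      rw [Finset.sum_eq_single (⟨k, by omega⟩ : Fin pb.dim)] at this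
      · simp only [hM, Matrix.map_apply, pb.leftMulMatrix, Matrix.of_apply, if_neg (Nat.ne_of_lt hk),
          if_true, map_one, one_mul] at this
        exact this
      · intro j _ hj
        have hjk : (j : ℕ) ≠ k := fun e => hj (Fin.ext e)
        by_cases hjd : (j : ℕ) + 1 = pb.dim
        · have : j = L := Fin.ext (show (j : ℕ) = pb.dim - 1 by omega)
          rw [this, hL, mul_zero]
        · simp [hM, pb.leftMulMatrix, hjd, Ne.symm hjk]
      · simp
    have all : ∀ (m k : ℕ) (hk : k < pb.dim), k + m + 1 = pb.dim →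
        (v : Fin pb.dim → E) ⟨k, hk⟩ = 0 := by
      intro m
      induction m with
      | zero =>
        intro k hk e
        have : (⟨k, hk⟩ : Fin pb.dim) = L := Fin.ext (show k = pb.dim - 1 by omega)
        rw [this, hL]
      | succ m ih => intro k hk e; exact step k (by omega) (ih _ _ (by omega))
    exact Subtype.ext (funext fun i => all (pb.dim - 1 - i) i i.2 (by have := i.2; omega))
  have hle : Module.finrank E (LinearMap.ker (M - pb.gen • 1).mulVecLin) ≤ 1 :=
    (LinearMap.finrank_le_finrank_of_injective hinj).trans (Module.finrank_self E).le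
  have hdet : (M - pb.gen • 1).det = 0 := by
    have h1 : (M.charpoly).eval pb.gen = 0 := by
      rw [hM, Matrix.charpoly_map, charpoly_leftMulMatrix, Polynomial.eval_map,
        ← Polynomial.aeval_def, minpoly.aeval]
    rw [Matrix.eval_charpoly] at h1
    rw [← neg_sub, Matrix.det_neg]
    rw [show pb.gen • (1 : Matrix (Fin pb.dim) (Fin pb.dim) E) = Matrix.scalar (Fin pb.dim) pb.gen
      from by ext i j; simp [Matrix.one_apply, Matrix.diagonal_apply]]
    rw [h1, mul_zero]
  obtain ⟨v, hv, hv0⟩ := Matrix.exists_mulVec_eq_zero_iff.2 hdet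
  have hpos : 0 < Module.finrank E (LinearMap.ker (M - pb.gen • 1).mulVecLin) :=
    Module.finrank_pos_iff_exists_ne_zero.2
      ⟨⟨v, hv0⟩, fun h => hv (congrArg Subtype.val h)⟩
  omega

/-- An element of order `r` in an extension of degree `j`. -/
theorem exists_root_of_unity [Fintype F] {r j : ℕ} (hr : r.Prime) (hj : 1 ≤ j)
    (h : r ∣ Fintype.card F ^ j - 1) :
    ∃ (E : Type) (_ : Field E) (_ : Algebra F E) (pb : PowerBasis F E),
      pb.dim ≤ j ∧ pb.gen ^ r = 1 ∧ pb.gen ≠ 1 := by
  classical
  obtain ⟨p, _⟩ := CharP.exists F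
  haveI : Fact p.Prime := ⟨CharP.char_is_prime F p⟩
  haveI : NeZero j := ⟨by omega⟩
  set K := FiniteField.Extension F p j
  haveI : Fintype K := Fintype.ofFinite K
  have hcard : Fintype.card Kˣ = Fintype.card F ^ j - 1 := by
    rw [Fintype.card_units]
    congr 1
    have := FiniteField.natCard_extension F p j
    simpa only [Nat.card_eq_fintype_card] using this
  haveI : Fact r.Prime := ⟨hr⟩
  obtain ⟨u, hu⟩ := exists_prime_orderOf_dvd_card r (G := Kˣ) (by rw [hcard]; exact h)
  have hint : IsIntegral F (u : K) := IsIntegral.of_finite F _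
  set pb := IntermediateField.adjoin.powerBasis hint
  refine ⟨↥(IntermediateField.adjoin F ({(u : K)} : Set K)), inferInstance, inferInstance, pb,
    ?_, ?_, ?_⟩
  · calc pb.dim = (minpoly F (u : K)).natDegree := IntermediateField.adjoin.powerBasis_dim hint
      _ ≤ Module.finrank F K := minpoly.natDegree_le _
      _ = j := FiniteField.finrank_extension F p j
  · apply Subtype.ext
    rw [IntermediateField.adjoin.powerBasis_gen]
    show (u : K) ^ r = 1
    rw [← Units.val_pow_eq_pow_val, ← hu, pow_orderOf_eq_one, Units.val_one]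
  · intro h1
    have h2 : (u : K) = 1 := by
      have h3 := congrArg Subtype.val h1
      rw [IntermediateField.adjoin.powerBasis_gen] at h3
      exact h3
    have : u = 1 := Units.ext h2
    rw [this, orderOf_one] at hu
    exact hr.one_lt.ne hu

/-- A block of determinant one and order dividing `r` with a simple eigenvalue, `r ∣ q - 1`. -/
theorem exists_block_split [Fintype F] {r : ℕ} (hr : r.Prime) (hr2 : r ≠ 2)
    (hq : r ∣ Fintype.card F - 1) :
    ∃ (M : Matrix (Fin 2) (Fin 2) F) (w : F), M ^ r = 1 ∧ M.det = 1 ∧ w ≠ 1 ∧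
      Module.finrank F (LinearMap.ker (M.map (RingHom.id F) - w • 1).mulVecLin) = 1 := by
  classical
  haveI : Fact r.Prime := ⟨hr⟩
  obtain ⟨u, hu⟩ := exists_prime_orderOf_dvd_card r (G := Fˣ) (by rwa [Fintype.card_units])
  have hu1 : u ≠ 1 := fun e => by rw [e, orderOf_one] at hu; exact hr.one_lt.ne hu
  have hu2 : u ^ 2 ≠ 1 := fun e => by
    have := orderOf_dvd_of_pow_eq_one e
    rw [hu] at this
    exact hr2 ((Nat.prime_dvd_prime_iff_eq hr Nat.prime_two).1 this)
  refine ⟨Matrix.diagonal ![(u : F), ((u⁻¹ : Fˣ) : F)], (u : F), ?_, ?_, fun e => hu1 (Units.ext e), ?_⟩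
  · rw [Matrix.diagonal_pow, ← Matrix.diagonal_one]
    congr 1
    funext i
    have hur : u ^ r = 1 := by rw [← hu]; exact pow_orderOf_eq_one u
    fin_cases i
    · simp [← Units.val_pow_eq_pow_val, hur]
    · show (((u⁻¹ : Fˣ) : F)) ^ r = 1
      rw [← Units.val_pow_eq_pow_val, inv_pow, hur, inv_one, Units.val_one]
  · simp [Matrix.det_diagonal, Fin.prod_univ_two]
  · have e : (Matrix.diagonal ![(u : F), ((u⁻¹ : Fˣ) : F)]).map (RingHom.id F) - (u : F) • 1 =
        Matrix.diagonal ![0, ((u⁻¹ : Fˣ) : F) - (u : F)] := by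
      ext i k
      fin_cases i <;> fin_cases k <;> simp
    have hne : ((u⁻¹ : Fˣ) : F) - (u : F) ≠ 0 := by
      rw [sub_ne_zero]
      intro e1
      exact hu2 (by rw [sq]; nth_rewrite 1 [← (Units.ext e1 : u⁻¹ = u)]; exact inv_mul_cancel u)
    rw [e]
    set D := Matrix.diagonal ![(0 : F), ((u⁻¹ : Fˣ) : F) - (u : F)]
    have h1 := D.mulVecLin.finrank_range_add_finrank_ker
    rw [Module.finrank_fintype_fun_eq_card, Fintype.card_fin] at h1
    have h2 : Module.finrank F (LinearMap.range D.mulVecLin) = 1 := by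
      show D.rank = 1
      rw [Matrix.rank_diagonal, Fintype.card_eq_one_iff]
      refine ⟨⟨1, by simpa using hne⟩, fun y => Subtype.ext ?_⟩
      obtain ⟨y, hy⟩ := y
      fin_cases y
      · simp at hy
      · rfl
    exact Nat.add_left_cancel ((congrArg (· + Module.finrank F (LinearMap.ker D.mulVecLin)) h2).symm.trans h1)

/-- A block of determinant one and order dividing `r` with a simple eigenvalue, `r ∤ q - 1`. -/
theorem exists_block_nonsplit [Fintype F] {r j : ℕ} (hr : r.Prime) (hj : 1 ≤ j)
    (h : r ∣ Fintype.card F ^ j - 1) (hq : ¬ r ∣ Fintype.card F - 1) :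
    ∃ (d : ℕ) (M : Matrix (Fin d) (Fin d) F) (E : Type) (_ : Field E) (f : F →+* E) (w : E),
      d ≤ j ∧ M ^ r = 1 ∧ M.det = 1 ∧ w ≠ 1 ∧
        Module.finrank E (LinearMap.ker (M.map f - w • 1).mulVecLin) = 1 := by
  classical
  obtain ⟨E, _, _, pb, hd, hgr, hg1⟩ := exists_root_of_unity hr hj h
  set M := Algebra.leftMulMatrix pb.basis pb.gen
  have hMr : M ^ r = 1 := by rw [← map_pow, hgr, map_one]
  refine ⟨pb.dim, M, E, inferInstance, algebraMap F E, pb.gen,
    hd, hMr, ?_, hg1, finrank_ker_leftMul pb⟩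
  have h1 : M.det ^ r = 1 := by rw [← Matrix.det_pow, hMr, Matrix.det_one]
  have h0 : M.det ≠ 0 := fun e => by simp [e, hr.ne_zero] at h1
  have h2 := FiniteField.pow_card_sub_one_eq_one M.det h0
  have h3 : Nat.Coprime r (Fintype.card F - 1) := (Nat.Prime.coprime_iff_not_dvd hr).2 hq
  have h4 := pow_gcd_eq_one.2 ⟨h1, h2⟩
  rwa [h3.gcd_eq_one, pow_one] at h4


variable {n d : ℕ}

/-- The block `M` padded with an identity. -/
def padMat (hd : d ≤ n) (M : Matrix (Fin d) (Fin d) F) : Matrix (Fin n) (Fin n) F :=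
  (Matrix.fromBlocks M 0 0 (1 : Matrix (Fin (n - d)) (Fin (n - d)) F)).submatrix
    (finSumFinEquiv.trans (finCongr (Nat.add_sub_cancel' hd))).symm
    (finSumFinEquiv.trans (finCongr (Nat.add_sub_cancel' hd))).symm

theorem det_padMat (hd : d ≤ n) (M : Matrix (Fin d) (Fin d) F) : (padMat hd M).det = M.det := by
  rw [padMat, Matrix.det_submatrix_equiv_self, Matrix.det_fromBlocks_zero₂₁, Matrix.det_one, mul_one]

theorem padMat_pow (hd : d ≤ n) (M : Matrix (Fin d) (Fin d) F) (k : ℕ) :
    padMat hd M ^ k = padMat hd (M ^ k) := by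
  induction k with
  | zero => rw [pow_zero, pow_zero, padMat, Matrix.fromBlocks_one, Matrix.submatrix_one_equiv]
  | succ k ih =>
    rw [pow_succ, ih, padMat, padMat, padMat, Matrix.submatrix_mul_equiv, Matrix.fromBlocks_multiply]
    simp [pow_succ]

theorem rank_padMat_sub_one (hd : d ≤ n) (M : Matrix (Fin d) (Fin d) F) :
    (padMat hd M - 1).rank ≤ d := by
  set e := (finSumFinEquiv.trans (finCongr (Nat.add_sub_cancel' hd))).symm
  have h : padMat hd M - 1 = ((Matrix.fromRows (M - 1) (0 : Matrix (Fin (n - d)) (Fin d) F)) *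
      Matrix.fromCols (1 : Matrix (Fin d) (Fin d) F) (0 : Matrix (Fin d) (Fin (n - d)) F)).submatrix
        e e := by
    rw [Matrix.fromRows_mul_fromCols]
    simp only [Matrix.mul_one, Matrix.mul_zero]
    ext i k
    have hdiag : (1 : Matrix (Fin n) (Fin n) F) i k = (1 : Matrix _ _ F) (e i) (e k) := by
      simp [Matrix.one_apply, e.injective.eq_iff]
    rw [Matrix.sub_apply, hdiag]
    show Matrix.fromBlocks M 0 0 1 (e i) (e k) - _ = _
    rcases hi : e i with a | a <;> rcases hk : e k with c | c <;>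
      simp [Matrix.submatrix_apply, hi, hk, Matrix.one_apply]
  rw [h, Matrix.rank_submatrix]
  refine (Matrix.rank_mul_le_left _ _).trans ?_
  simpa using Matrix.rank_le_card_width (Matrix.fromRows (M - 1) (0 : Matrix (Fin (n - d)) (Fin d) F))

theorem rank_padMat_map {E : Type*} [Field E] (hd : d ≤ n) (M : Matrix (Fin d) (Fin d) F)
    (f : F →+* E) (w : E) (hw : w ≠ 1) :
    ((padMat hd M).map f - w • 1).rank +
      Module.finrank E (LinearMap.ker (M.map f - w • 1).mulVecLin) = n := by
  set e := (finSumFinEquiv.trans (finCongr (Nat.add_sub_cancel' hd))).symm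
  set B := Matrix.fromBlocks (M.map f - w • 1) 0 0
    ((1 - w) • (1 : Matrix (Fin (n - d)) (Fin (n - d)) E)) with hB
  have h : (padMat hd M).map f - w • 1 = B.submatrix e e := by
    ext i k
    rw [Matrix.sub_apply, Matrix.map_apply, Matrix.smul_apply, Matrix.submatrix_apply, hB]
    have hdiag : (1 : Matrix (Fin n) (Fin n) E) i k = (1 : Matrix _ _ E) (e i) (e k) := by
      simp [Matrix.one_apply, e.injective.eq_iff]
    rw [hdiag]
    show f (Matrix.fromBlocks M 0 0 1 (e i) (e k)) - _ = _
    rcases hi : e i with a | a <;> rcases hk : e k with c | c <;>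
      simp [Matrix.one_apply]
    split <;> simp
  rw [h, Matrix.rank_submatrix]
  let ev : LinearMap.ker B.mulVecLin ≃ₗ[E] LinearMap.ker (M.map f - w • 1).mulVecLin :=
    { toFun := fun v => ⟨(v : Fin d ⊕ Fin (n - d) → E) ∘ Sum.inl, by
        refine funext fun i => ?_
        have := congrFun (LinearMap.mem_ker.1 v.2) (Sum.inl i)
        rw [Matrix.mulVecLin_apply, show B *ᵥ (v : Fin d ⊕ Fin (n - d) → E) = _ from Matrix.fromBlocks_mulVec _ _ _ _ _] at this
        rw [Sum.elim_inl, Pi.add_apply, Matrix.zero_mulVec, Pi.zero_apply, add_zero] at this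
        exact this⟩
      map_add' := fun v v' => rfl
      map_smul' := fun c v => rfl
      invFun := fun u => ⟨Sum.elim (u : Fin d → E) 0, by
        rw [LinearMap.mem_ker, Matrix.mulVecLin_apply, hB, Matrix.fromBlocks_mulVec,
          Sum.elim_comp_inl, Sum.elim_comp_inr, show (M.map f - w • 1) *ᵥ (u : Fin d → E) = 0 from u.2]
        funext i; cases i <;> simp⟩
      left_inv := fun v => by
        refine Subtype.ext (funext fun i => ?_)
        cases i with
        | inl i => rfl
        | inr i =>
          have := congrFun (LinearMap.mem_ker.1 v.2) (Sum.inr i)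
          rw [Matrix.mulVecLin_apply, show B *ᵥ (v : Fin d ⊕ Fin (n - d) → E) = _ from Matrix.fromBlocks_mulVec _ _ _ _ _] at this
          simp only [Sum.elim_inr, Pi.add_apply, Matrix.zero_mulVec, Pi.zero_apply, zero_add,
            Matrix.smul_mulVec, Matrix.one_mulVec, Pi.smul_apply, smul_eq_mul, mul_eq_zero,
            sub_eq_zero, Ne.symm hw, false_or, Function.comp_apply] at this
          exact this.symm
      right_inv := fun u => rfl }
  rw [← ev.finrank_eq]
  show Module.finrank E (LinearMap.range B.mulVecLin) + _ = n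
  rw [B.mulVecLin.finrank_range_add_finrank_ker, Module.finrank_fintype_fun_eq_card,
    Fintype.card_sum, Fintype.card_fin, Fintype.card_fin]
  omega

end Cfsg.Agent.Lib.TensorDerange
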