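import Mathlib
import Cfsg.Agent.Lib.TensorDerange.Member
import Cfsg.Agent.Lib.TensorDerange.Witness

/-!
# Derangements of prime order on tensor decompositions
-/

set_option autoImplicit false

namespace Cfsg.Agent.Lib.TensorDerange

open Matrix

variable {F : Type*} [Field F] {n a b : ℕ}

/-- Every element of prime order `r` modulo scalars is conjugate into the stabiliser. -/
def AllFix (e : Fin n ≃ Fin a × Fin b) (P : GL (Fin n) F) (r : ℕ) : Prop :=
  ∀ x ∈ Cfsg.Geo.specialLinear (Fin n) F,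
    (∃ z : F, ((x ^ r : GL (Fin n) F) : Matrix (Fin n) (Fin n) F) = z • (1 : Matrix (Fin n) (Fin n) F)) →
      (∀ z : F, (x : Matrix (Fin n) (Fin n) F) ≠ z • (1 : Matrix (Fin n) (Fin n) F)) →
      ∃ g ∈ Cfsg.Geo.specialLinear (Fin n) F, g⁻¹ * x * g ∈ Cfsg.Geo.tensorProductSubgroup a b e P

variable (e : Fin n ≃ Fin a × Fin b) (P : GL (Fin n) F) {r : ℕ}

open scoped Classical in
theorem rank_smul_sub {K : Type*} [Field K] (m : ℕ) (c w : K) :
    ((c • (1 : Matrix (Fin m) (Fin m) K)) - w • 1).rank = if c = w then 0 else m := by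
  rw [← sub_smul]
  split_ifs with h
  · rw [h, sub_self, zero_smul, Matrix.rank_zero]
  · rw [Matrix.rank_of_isUnit]
    · simp
    · rw [Matrix.isUnit_iff_isUnit_det, Matrix.det_smul, Matrix.det_one, mul_one]
      exact (isUnit_iff_ne_zero.2 (sub_ne_zero.2 h)).pow _

theorem not_allFix (hb : 0 < b) (X : Matrix (Fin n) (Fin n) F) (hdet : X.det = 1) (s z : F)
    (hz : X ^ r = z • 1)
    (hcase : (X - s • 1).rank < b ∨
      (X ^ r = 1 ∧ ∀ A : GL (Fin a) F, (∃ c : F, (A : Matrix (Fin a) (Fin a) F) ^ r = c • 1) →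
        ∃ c : F, (A : Matrix (Fin a) (Fin a) F) = c • 1))
    {K : Type*} [Field K] (f : F →+* K) (w : K) (hnd : ¬ a ∣ (X.map f - w • 1).rank) :
    ¬ AllFix e P r := by
  intro h
  set x : GL (Fin n) F := GeneralLinearGroup.mkOfDetNeZero X (by rw [hdet]; exact one_ne_zero)
  have hx : (x : Matrix (Fin n) (Fin n) F) = X := rfl
  have hab : n = a * b := by simpa using Fintype.card_congr e
  obtain ⟨g, -, hg⟩ := h x (by
      refine MonoidHom.mem_ker.2 (Units.ext ?_)
      rw [Matrix.GeneralLinearGroup.val_det_apply]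
      exact hdet)
    ⟨z, by rw [Units.val_pow_eq_pow_val]; exact hz⟩ (fun c hc => by
      apply hnd
      rw [show X = c • 1 from hc]
      have : (c • (1 : Matrix (Fin n) (Fin n) F)).map f = f c • 1 := by
        ext i j
        by_cases hij : i = j <;> simp [Matrix.one_apply, hij]
      rw [this, rank_smul_sub]
      split_ifs
      · exact dvd_zero a
      · exact ⟨b, hab⟩)
  refine not_conj_mem hb e P x r s ?_ f w hnd ⟨g, hg⟩
  rcases hcase with h1 | ⟨h1, h2⟩
  · exact Or.inl h1
  · exact Or.inr ⟨Units.ext (by rw [Units.val_pow_eq_pow_val]; exact h1), h2⟩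

open scoped Classical in
theorem diagonal_sub_rank (v : Fin n → F) (s : F) :
    (Matrix.diagonal v - s • 1).rank = Fintype.card {i // v i - s ≠ 0} := by
  classical
  have : Matrix.diagonal v - s • 1 = Matrix.diagonal fun i => v i - s := by
    ext i j
    by_cases h : i = j <;> simp [h]
  rw [this, Matrix.rank_diagonal]

theorem map_id_eq (X : Matrix (Fin n) (Fin n) F) : X.map (RingHom.id F) = X := rfl

/-- The characteristic. -/
theorem not_allFix_char (ha : 2 ≤ a) (hb : 2 ≤ b) [CharP F r] (hr : r.Prime) : ¬ AllFix e P r := by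
  classical
  have hab : n = a * b := by simpa using Fintype.card_congr e
  have hn : 1 < n := by nlinarith
  set i : Fin n := ⟨0, by omega⟩
  set j : Fin n := ⟨1, hn⟩
  have hij : i ≠ j := by simp [i, j]
  set X := transvection i j (1 : F)
  have hp : ∀ k : ℕ, X ^ k = transvection i j (k : F) := by
    intro k
    induction k with
    | zero => simp
    | succ k ih => rw [pow_succ, ih, transvection_mul_transvection_same _ _ hij, Nat.cast_succ]
  have hsub : X - (1 : F) • 1 = Matrix.single i j (1 : F) := by simp [X, transvection]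
  have hrk : (X - (1 : F) • 1).rank = 1 := by
    rw [hsub]
    refine le_antisymm ?_ ?_
    · rw [show Matrix.single i j (1 : F) = vecMulVec (Pi.single i 1) (Pi.single j 1) from by
        ext k l
        by_cases hk : k = i <;> by_cases hl : l = j <;>
          simp [Matrix.single_apply, vecMulVec_apply, hk, hl, eq_comm]]
      exact Matrix.rank_vecMulVec_le _ _
    · rw [Nat.one_le_iff_ne_zero]
      intro h
      rw [Matrix.rank, Submodule.finrank_eq_zero, LinearMap.range_eq_bot] at h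
      have := congrFun (LinearMap.congr_fun h (Pi.single j 1)) i
      simp at this
  refine not_allFix e P (by omega) X (det_transvection_of_ne i j hij _) 1 1 ?_ (Or.inl (by rw [hrk]; omega))
    (RingHom.id F) 1 (by rw [map_id_eq, hrk, Nat.dvd_one]; omega)
  rw [hp, CharP.cast_eq_zero, transvection_zero, one_smul]

/-- `r = 2` and `a ≥ 3`. -/
theorem not_allFix_two (ha : 3 ≤ a) (hlt : a < b) (h2 : (2 : F) ≠ 0) : ¬ AllFix e P 2 := by
  classical
  have hab : n = a * b := by simpa using Fintype.card_congr e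
  have hn : 2 ≤ n := by nlinarith
  set v : Fin n → F := fun i => if (i : ℕ) < 2 then -1 else 1
  have hv : ∀ i : Fin n, v i - 1 ≠ 0 ↔ (i : ℕ) < 2 := by
    intro i
    by_cases hi : (i : ℕ) < 2
    · simp only [v, hi, if_true, iff_true]
      intro h; apply h2; linear_combination -h
    · simp only [v, hi, if_false, sub_self, ne_eq, not_true_eq_false]
  have hrk : (Matrix.diagonal v - (1 : F) • 1).rank = 2 := by
    rw [diagonal_sub_rank, Fintype.card_congr (Equiv.subtypeEquivRight hv)]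
    rw [Fintype.card_of_bijective (f := fun k : {i : Fin n // (i : ℕ) < 2} => (⟨k.1, k.2⟩ : Fin 2))
      ⟨fun k l h => Subtype.ext (Fin.ext (congrArg (fun z : Fin 2 => (z : ℕ)) h)), fun k => ⟨⟨⟨k, by omega⟩, k.2⟩, rfl⟩⟩]
    simp
  refine not_allFix e P (by omega) (Matrix.diagonal v) ?_ 1 1 ?_ (Or.inl (by rw [hrk]; omega))
    (RingHom.id F) 1 (by rw [map_id_eq, hrk]; exact fun h => by have := Nat.le_of_dvd two_pos h; omega)
  · rw [Matrix.det_diagonal]
    have h1 : ∀ i : Fin n, v i = (-1) ^ (if (i : ℕ) < 2 then 1 else 0) := fun i => by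
      by_cases hi : (i : ℕ) < 2 <;> simp only [v, hi, if_true, if_false, pow_one, pow_zero]
    simp only [h1, Finset.prod_pow_eq_pow_sum, Finset.sum_boole]
    rw [← Fintype.card_subtype, Fintype.card_of_bijective
      (f := fun k : {i : Fin n // (i : ℕ) < 2} => (⟨k.1, k.2⟩ : Fin 2))
      ⟨fun k l h => Subtype.ext (Fin.ext (congrArg (fun z : Fin 2 => (z : ℕ)) h)), fun k => ⟨⟨⟨k, by omega⟩, k.2⟩, rfl⟩⟩]
    simp
  · rw [Matrix.diagonal_pow, one_smul, ← Matrix.diagonal_one]
    congr 1
    funext i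
    by_cases hi : (i : ℕ) < 2 <;> simp only [v, hi, if_true, if_false, Pi.pow_apply] <;> ring

/-- `r = 2`, `a = 2` and `-1` is an `n`-th power. -/
theorem not_allFix_two_root (ha : a = 2) (hb : 2 ≤ b) (h2 : (2 : F) ≠ 0) {s : F} (hs : s ^ n = -1) :
    ¬ AllFix e P 2 := by
  classical
  have hab : n = a * b := by simpa using Fintype.card_congr e
  have hn : 0 < n := by subst ha; omega
  have hs0 : s ≠ 0 := fun h => by simp [h, hn.ne'] at hs
  set i₀ : Fin n := ⟨0, hn⟩
  set v : Fin n → F := fun i => if i = i₀ then -s else s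
  have hv : ∀ i : Fin n, v i - s ≠ 0 ↔ i = i₀ := by
    intro i
    by_cases hi : i = i₀
    · simp only [v, hi, if_true, iff_true]
      intro h
      exact mul_ne_zero h2 hs0 (by linear_combination -h)
    · simp [v, hi]
  have hrk : (Matrix.diagonal v - s • 1).rank = 1 := by
    rw [diagonal_sub_rank, Fintype.card_congr (Equiv.subtypeEquivRight hv), Fintype.card_subtype_eq]
  refine not_allFix e P (by omega) (Matrix.diagonal v) ?_ s (s ^ 2) ?_ (Or.inl (by rw [hrk]; omega))
    (RingHom.id F) s (by rw [map_id_eq, hrk, ha]; omega)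
  · rw [Matrix.det_diagonal, ← Finset.mul_prod_erase Finset.univ v (Finset.mem_univ i₀),
      Finset.prod_congr rfl (fun i hi => show v i = s by simp [v, (Finset.mem_erase.1 hi).1]),
      Finset.prod_const, Finset.card_erase_of_mem (Finset.mem_univ i₀), Finset.card_univ,
      Fintype.card_fin]
    show v i₀ * s ^ (n - 1) = 1
    simp only [v, if_true]
    rw [neg_mul, ← pow_succ', show n - 1 + 1 = n by omega, hs, neg_neg]
  · rw [Matrix.diagonal_pow, Matrix.smul_one_eq_diagonal]
    congr 1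
    funext i
    by_cases hi : i = i₀ <;> simp [v, hi]

theorem exists_dvd_sub_one [Fintype F] (hr : r.Prime) (hrq : ¬ r ∣ Fintype.card F)
    (h : r ∣ Nat.card (GL (Fin n) F)) : ∃ j, 1 ≤ j ∧ j ≤ n ∧ r ∣ Fintype.card F ^ j - 1 := by
  rw [Matrix.card_GL_field] at h
  obtain ⟨i, -, hi⟩ := (Nat.Prime.prime hr).exists_mem_finset_dvd h
  refine ⟨n - i, by have := i.2; omega, Nat.sub_le _ _, ?_⟩
  have e : Fintype.card F ^ n - Fintype.card F ^ (i : ℕ) =
      Fintype.card F ^ (i : ℕ) * (Fintype.card F ^ (n - (i : ℕ)) - 1) := by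
    rw [Nat.mul_sub, mul_one, ← pow_add, Nat.add_sub_cancel' i.2.le]
  rw [e] at hi
  exact (hr.dvd_mul.1 hi).resolve_left fun h' => hrq (hr.dvd_of_dvd_pow h')

theorem not_allFix_block (ha : 2 ≤ a) (hb : 0 < b) (hr : r.Prime) {K : Type*} [Field K] (d : ℕ)
    (hd : d ≤ n) (M : Matrix (Fin d) (Fin d) F) (f : F →+* K) (w : K) (hMr : M ^ r = 1)
    (hMd : M.det = 1) (hw : w ≠ 1)
    (hker : Module.finrank K (LinearMap.ker (M.map f - w • 1).mulVecLin) = 1)
    (hc : d < b ∨ ∀ A : GL (Fin a) F, (∃ c : F, (A : Matrix (Fin a) (Fin a) F) ^ r = c • 1) →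
      ∃ c : F, (A : Matrix (Fin a) (Fin a) F) = c • 1) : ¬ AllFix e P r := by
  have hab : n = a * b := by simpa using Fintype.card_congr e
  have hpow : padMat hd M ^ r = 1 := by
    rw [padMat_pow, hMr, padMat, Matrix.fromBlocks_one, Matrix.submatrix_one_equiv]
  refine not_allFix e P hb (padMat hd M) (by rw [det_padMat, hMd]) 1 1
    (by rw [hpow, one_smul]) ?_ f w ?_
  · rcases hc with hc | hc
    · left
      rw [one_smul]
      exact lt_of_le_of_lt (rank_padMat_sub_one hd M) hc
    · exact Or.inr ⟨hpow, hc⟩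
  · intro hdvd
    have h1 := rank_padMat_map hd M f w hw
    rw [hker] at h1
    have h2 : a ∣ n := ⟨b, hab⟩
    rw [← h1] at h2
    exact absurd ((Nat.dvd_add_right hdvd).1 h2) (by rw [Nat.dvd_one]; omega)

/-- Odd `r` prime to the characteristic. -/
theorem not_allFix_odd [Fintype F] (ha : 2 ≤ a) (hlt : a < b) (hr : r.Prime) (hr2 : r ≠ 2)
    (hrq : ¬ r ∣ Fintype.card F) (h : r ∣ Nat.card (GL (Fin n) F)) : ¬ AllFix e P r := by
  classical
  have hab : n = a * b := by simpa using Fintype.card_congr e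
  have hn : 2 ≤ n := by nlinarith
  by_cases hq : r ∣ Fintype.card F - 1
  · obtain ⟨M, w, hMr, hMd, hw, hker⟩ := exists_block_split hr hr2 hq
    exact not_allFix_block e P ha (by omega) hr 2 hn M (RingHom.id F) w hMr hMd hw hker (Or.inl (by omega))
  have hex : ∃ j, 1 ≤ j ∧ r ∣ Fintype.card F ^ j - 1 := by
    obtain ⟨j, hj, -, hjr⟩ := exists_dvd_sub_one (n := n) hr hrq h
    exact ⟨j, hj, hjr⟩
  have hjn : Nat.find hex ≤ n := by
    obtain ⟨j, hj, hjn, hjr⟩ := exists_dvd_sub_one (n := n) hr hrq h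
    exact (Nat.find_min' hex ⟨hj, hjr⟩).trans hjn
  obtain ⟨hj1, hjr⟩ := Nat.find_spec hex
  obtain ⟨d, M, E, _, f, w, hdj, hMr, hMd, hw, hker⟩ := exists_block_nonsplit hr hj1 hjr hq
  refine not_allFix_block e P ha (by omega) hr d (hdj.trans hjn) M f w hMr hMd hw hker ?_
  by_cases hdb : d < b
  · exact Or.inl hdb
  refine Or.inr fun A ⟨c, hc⟩ => ?_
  have hc0 : c ≠ 0 := fun h0 => by
    have h1 : ((A ^ r : GL (Fin a) F) : Matrix (Fin a) (Fin a) F) = 0 := by
      rw [Units.val_pow_eq_pow_val, hc, h0, zero_smul]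
    haveI : Nonempty (Fin a) := ⟨⟨0, by omega⟩⟩
    exact (A ^ r).ne_zero h1
  obtain ⟨d', hd'⟩ : ∃ d' : F, d' ^ r = c := by
    have hbij : Function.Bijective (fun u : Fˣ => u ^ r) := (powCoprime (G := Fˣ) (n := r) (by
      rw [Nat.card_eq_fintype_card, Fintype.card_units]
      exact ((Nat.Prime.coprime_iff_not_dvd hr).2 hq).symm)).bijective
    obtain ⟨u, hu⟩ := hbij.2 (Units.mk0 c hc0)
    exact ⟨u, by rw [← Units.val_pow_eq_pow_val]; exact congrArg Units.val hu⟩
  have hd0 : d' ≠ 0 := fun h0 => hc0 (by rw [← hd', h0, zero_pow hr.ne_zero])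
  set D : GL (Fin a) F := Units.map (Matrix.scalar (Fin a)).toMonoidHom (Units.mk0 d' hd0)
  have hD : (D : Matrix (Fin a) (Fin a) F) = d' • 1 := by
    rw [Matrix.smul_one_eq_diagonal]; rfl
  have hord : (A * D⁻¹) ^ r = 1 := by
    have hcomm : Commute A D⁻¹ := (Commute.inv_right (Units.ext (by
      rw [Units.val_mul, Units.val_mul, hD, Matrix.mul_smul, Matrix.smul_mul, Matrix.mul_one,
        Matrix.one_mul])))
    rw [hcomm.mul_pow, inv_pow, mul_inv_eq_one]
    refine Units.ext ?_
    rw [Units.val_pow_eq_pow_val, Units.val_pow_eq_pow_val, hc, hD, smul_pow, one_pow, hd']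
  have h1 : A * D⁻¹ = 1 := by
    by_contra hne
    haveI : Fact r.Prime := ⟨hr⟩
    have hor : orderOf (A * D⁻¹) = r := orderOf_eq_prime hord hne
    obtain ⟨k, hk, hka, hkr⟩ := exists_dvd_sub_one (n := a) hr hrq (hor ▸ orderOf_dvd_natCard _)
    have := Nat.find_min' hex ⟨hk, hkr⟩
    omega
  exact ⟨d', by rw [mul_inv_eq_one] at h1; rw [h1, hD]⟩

end Cfsg.Agent.Lib.TensorDerange
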