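import Mathlib
import Cfsg.Agent.Lib.TensorDerange.Derange

/-!
# Involutions modulo scalars are conjugate into the stabiliser when the first factor is a plane
-/

set_option autoImplicit false

namespace Cfsg.Agent.Lib.TensorDerange

open Matrix
open scoped Kronecker

variable {F : Type*} [Field F] {n b : ℕ}

/-- An involution is diagonalisable. -/
theorem exists_diag_of_invol (h2 : (2 : F) ≠ 0) {Y : Matrix (Fin n) (Fin n) F} (hY : Y * Y = 1) :
    ∃ (T : Matrix (Fin n) (Fin n) F) (v : Fin n → F), IsUnit T.det ∧ (∀ i, v i = 1 ∨ v i = -1) ∧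
      Y * T = T * Matrix.diagonal v := by
  classical
  set p := LinearMap.ker (Y - 1).mulVecLin
  set m := LinearMap.ker (Y + 1).mulVecLin
  have hmem_p : ∀ w, w ∈ p ↔ Y *ᵥ w = w := fun w => by
    simp [p, Matrix.sub_mulVec, sub_eq_zero]
  have hmem_m : ∀ w, w ∈ m ↔ Y *ᵥ w = -w := fun w => by
    simp [m, Matrix.add_mulVec, add_eq_zero_iff_eq_neg]
  have hc : IsCompl p m := by
    constructor
    · rw [Submodule.disjoint_def]
      intro w hp hm
      rw [hmem_p] at hp
      rw [hmem_m, hp] at hm
      funext i
      have := congrFun hm i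
      simp only [Pi.neg_apply] at this
      have h' : (2 : F) * w i = 0 := by linear_combination this
      exact (mul_eq_zero.1 h').resolve_left h2
    · rw [codisjoint_iff, eq_top_iff]
      intro w _
      refine Submodule.mem_sup.2 ⟨(2 : F)⁻¹ • (w + Y *ᵥ w), ?_, (2 : F)⁻¹ • (w - Y *ᵥ w), ?_, ?_⟩
      · rw [hmem_p, Matrix.mulVec_smul, Matrix.mulVec_add, Matrix.mulVec_mulVec, hY,
          Matrix.one_mulVec, add_comm]
      · rw [hmem_m, Matrix.mulVec_smul, Matrix.mulVec_sub, Matrix.mulVec_mulVec, hY,
          Matrix.one_mulVec, ← smul_neg, neg_sub]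
      · rw [← smul_add, add_add_sub_cancel, ← two_smul F w, smul_smul, inv_mul_cancel₀ h2, one_smul]
  set B := ((Module.finBasis F p).prod (Module.finBasis F m)).map (Submodule.prodEquivOfIsCompl p m hc)
  have hcard : Fintype.card (Fin (Module.finrank F p) ⊕ Fin (Module.finrank F m)) = n := by
    rw [← Module.finrank_eq_card_basis B, Module.finrank_fintype_fun_eq_card, Fintype.card_fin]
  set eqv := (Fintype.equivFinOfCardEq hcard)
  set B' := B.reindex eqv
  refine ⟨(Pi.basisFun F (Fin n)).toMatrix B',
    fun i => Sum.elim (fun _ => (1 : F)) (fun _ => (-1 : F)) (eqv.symm i), ?_, ?_, ?_⟩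
  · exact (Matrix.isUnit_iff_isUnit_det _).1
      (IsUnit.of_mul_eq_one _ ((Pi.basisFun F (Fin n)).toMatrix_mul_toMatrix_flip B'))
  · intro i
    show Sum.elim (fun _ => (1 : F)) (fun _ => (-1 : F)) (eqv.symm i) = 1 ∨
      Sum.elim (fun _ => (1 : F)) (fun _ => (-1 : F)) (eqv.symm i) = -1
    rcases eqv.symm i with k | k
    · exact Or.inl rfl
    · exact Or.inr rfl
  · ext i j
    rw [Matrix.mul_diagonal]
    have h1 : (Y * (Pi.basisFun F (Fin n)).toMatrix B') i j = (Y *ᵥ B' j) i := by
      simp [Matrix.mul_apply, Matrix.mulVec, dotProduct, Module.Basis.toMatrix_apply]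
    rw [h1, Module.Basis.toMatrix_apply, Pi.basisFun_repr]
    rcases hj : eqv.symm j with k | k
    · have hB : B' j = (Module.finBasis F p k : Fin n → F) := by
        simp [B', B, hj]
      rw [hB, (hmem_p _).1 (Module.finBasis F p k).2]
      simp
    · have hB : B' j = (Module.finBasis F m k : Fin n → F) := by
        simp [B', B, hj]
      rw [hB, (hmem_m _).1 (Module.finBasis F m k).2]
      simp

/-- A basis adapted to a square root of a non-square scalar. -/
theorem exists_basis_of_nonsquare {z : F} (hz : ¬ IsSquare z) {X : Matrix (Fin n) (Fin n) F}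
    (hX : X * X = z • 1) : ∀ k : ℕ, 2 * k ≤ n → ∃ v : Fin k → Fin n → F,
      LinearIndependent F (fun ij : Fin 2 × Fin k => if ij.1 = 0 then v ij.2 else X *ᵥ v ij.2) := by
  intro k
  induction k with
  | zero => exact fun _ => ⟨Fin.elim0, linearIndependent_empty_type⟩
  | succ k ih =>
    intro hk
    obtain ⟨v, hv⟩ := ih (by omega)
    set W := Submodule.span F (Set.range fun ij : Fin 2 × Fin k =>
      if ij.1 = 0 then v ij.2 else X *ᵥ v ij.2) with hW
    have hinv : ∀ w ∈ W, X *ᵥ w ∈ W := by
      intro w hw
      induction hw using Submodule.span_induction with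
      | mem w hw =>
        obtain ⟨⟨i, l⟩, rfl⟩ := hw
        fin_cases i
        · exact Submodule.subset_span ⟨(1, l), by simp⟩
        · simp only [Fin.mk_one, one_ne_zero, if_false, Matrix.mulVec_mulVec, hX, Matrix.smul_mulVec,
            Matrix.one_mulVec]
          exact Submodule.smul_mem _ _ (Submodule.subset_span ⟨(0, l), by simp⟩)
      | zero => simp
      | add w w' _ _ h h' => rw [Matrix.mulVec_add]; exact add_mem h h'
      | smul c w _ h => rw [Matrix.mulVec_smul]; exact Submodule.smul_mem _ _ h
    obtain ⟨u, -, hu⟩ : ∃ u ∈ (⊤ : Submodule F (Fin n → F)), u ∉ W := by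
      refine SetLike.exists_of_lt (lt_top_iff_ne_top.2 fun h => ?_)
      have h1 := finrank_range_le_card (R := F)
        (fun ij : Fin 2 × Fin k => if ij.1 = 0 then v ij.2 else X *ᵥ v ij.2)
      rw [Set.finrank, ← hW, h, finrank_top, Module.finrank_fintype_fun_eq_card] at h1
      simp at h1
      omega
    have hXu : ∀ (c d : F), c • u + d • (X *ᵥ u) ∈ W → c = 0 ∧ d = 0 := by
      intro c d h
      have h' : c • (X *ᵥ u) + (d * z) • u ∈ W := by
        have := hinv _ h
        rwa [Matrix.mulVec_add, Matrix.mulVec_smul, Matrix.mulVec_smul, Matrix.mulVec_mulVec, hX,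
          Matrix.smul_mulVec, Matrix.one_mulVec, smul_smul] at this
      have h2 : (c * c - d * d * z) • u ∈ W := by
        have := sub_mem (Submodule.smul_mem W c h) (Submodule.smul_mem W d h')
        convert this using 1
        module
      have h3 : c * c - d * d * z = 0 := by
        by_contra hne
        exact hu ((Submodule.smul_mem_iff _ hne).1 h2)
      have hd : d = 0 := by
        by_contra hd
        exact hz ⟨c / d, by field_simp; linear_combination -h3⟩
      subst hd
      exact ⟨mul_self_eq_zero.1 (by simpa using h3), rfl⟩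
    refine ⟨Fin.snoc v u, ?_⟩
    rw [Fintype.linearIndependent_iff]
    intro g hg
    rw [Fintype.sum_prod_type, Fin.sum_univ_two, Fin.sum_univ_castSucc, Fin.sum_univ_castSucc] at hg
    simp only [if_true, Fin.one_eq_zero_iff, OfNat.ofNat_ne_one, if_false, Fin.snoc_castSucc,
      Fin.snoc_last, one_ne_zero] at hg
    have hlast := hXu (g (0, Fin.last k)) (g (1, Fin.last k)) (by
      have e : g (0, Fin.last k) • u + g (1, Fin.last k) • (X *ᵥ u) =
          -((∑ l : Fin k, g (0, l.castSucc) • v l) + ∑ l : Fin k, g (1, l.castSucc) • (X *ᵥ v l)) := by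
        rw [eq_neg_iff_add_eq_zero]
        rw [← hg]; abel
      rw [e]
      refine neg_mem (add_mem (Submodule.sum_mem _ fun l _ => ?_) (Submodule.sum_mem _ fun l _ => ?_))
      · exact Submodule.smul_mem _ _ (Submodule.subset_span ⟨(0, l), by simp⟩)
      · exact Submodule.smul_mem _ _ (Submodule.subset_span ⟨(1, l), by simp⟩))
    rw [hlast.1, hlast.2, zero_smul, zero_smul, add_zero, add_zero] at hg
    have hrest := Fintype.linearIndependent_iff.1 hv (fun ij => g (ij.1, ij.2.castSucc)) (by
      rw [Fintype.sum_prod_type, Fin.sum_univ_two]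
      simpa using hg)
    rintro ⟨i, l⟩
    refine Fin.lastCases ?_ (fun l => hrest (i, l)) l
    fin_cases i
    · exact hlast.1
    · exact hlast.2

theorem allFix_two [Fintype F] (h2 : (2 : F) ≠ 0) (e : Fin n ≃ Fin 2 × Fin b) (P : GL (Fin n) F)
    (hpar : ¬ ∃ s : F, s ^ n = -1) : AllFix e P 2 := by
  classical
  intro x hxdet hzx hxns
  obtain ⟨z, hz⟩ := hzx
  set X : Matrix (Fin n) (Fin n) F := (x : Matrix (Fin n) (Fin n) F) with hXd
  have hXX : X * X = z • 1 := by rw [← sq, ← hz, Units.val_pow_eq_pow_val]
  have hdetX : X.det = 1 := by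
    have := congrArg Units.val (MonoidHom.mem_ker.1 hxdet)
    rwa [Matrix.GeneralLinearGroup.val_det_apply] at this
  have hnb : n = 2 * b := by simpa using Fintype.card_congr e
  suffices ∃ (T : Matrix (Fin n) (Fin n) F) (A : Matrix (Fin 2) (Fin 2) F)
      (B : Matrix (Fin b) (Fin b) F), IsUnit T.det ∧ IsUnit A.det ∧ IsUnit B.det ∧
      X * T = T * kmat e A B ∧
      ∀ δ : F, δ ≠ 0 → ∃ C : Matrix (Fin n) (Fin n) F, C.det = δ ∧ kmat e A B * C = C * kmat e A B by
    obtain ⟨T, A, B, hT, hA, hB, hXT, hC⟩ := this
    have hTne : T.det ≠ 0 := hT.ne_zero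
    have hPne : (P : Matrix (Fin n) (Fin n) F).det ≠ 0 :=
      ((Matrix.isUnit_iff_isUnit_det _).1 P.isUnit).ne_zero
    obtain ⟨C, hCd, hCc⟩ := hC ((P : Matrix (Fin n) (Fin n) F).det / T.det) (div_ne_zero hPne hTne)
    have hCne : C.det ≠ 0 := by rw [hCd]; exact div_ne_zero hPne hTne
    set tT := GeneralLinearGroup.mkOfDetNeZero T hTne
    set tC := GeneralLinearGroup.mkOfDetNeZero C hCne
    set g := tT * tC * P⁻¹ with hg
    refine ⟨g, MonoidHom.mem_ker.2 ?_, (mem_tensor_iff e P _).2
      ⟨GeneralLinearGroup.mkOfDetNeZero A hA.ne_zero, GeneralLinearGroup.mkOfDetNeZero B hB.ne_zero, ?_⟩⟩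
    · refine Units.ext ?_
      rw [hg, map_mul, map_mul, map_inv, Units.val_mul, Units.val_mul, Units.val_inv_eq_inv_val,
        Matrix.GeneralLinearGroup.val_det_apply, Matrix.GeneralLinearGroup.val_det_apply,
        Matrix.GeneralLinearGroup.val_det_apply, Units.val_one]
      show T.det * C.det * _ = 1
      rw [hCd]; field_simp
    · show _ = kmat e A B
      rw [show P⁻¹ * (g⁻¹ * x * g) * P = (tT * tC)⁻¹ * (x * (tT * tC)) by rw [hg]; group]
      have e1 : ((x * (tT * tC) : GL (Fin n) F) : Matrix (Fin n) (Fin n) F) =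
          ((tT * tC : GL (Fin n) F) : Matrix (Fin n) (Fin n) F) * kmat e A B := by
        rw [Units.val_mul, Units.val_mul]
        show X * (T * C) = T * C * kmat e A B
        rw [← Matrix.mul_assoc, hXT, Matrix.mul_assoc, hCc, Matrix.mul_assoc]
      rw [Units.val_mul, e1, ← Matrix.mul_assoc, ← Units.val_mul, inv_mul_cancel, Units.val_one,
        Matrix.one_mul]
  by_cases hsq : IsSquare z
  · obtain ⟨s, rfl⟩ := hsq
    have hs : s ≠ 0 := by
      rintro rfl
      have h1 := congrArg Matrix.det hXX
      rw [Matrix.det_mul, hdetX, mul_zero, zero_smul, one_mul] at h1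
      haveI : Nonempty (Fin n) := ⟨⟨0, by
        by_contra h0
        obtain rfl : n = 0 := by omega
        exact hxns 1 (by ext i; exact i.elim0)⟩⟩
      rw [Matrix.det_zero] at h1
      · exact one_ne_zero h1
    set Y := s⁻¹ • X
    have hYY : Y * Y = 1 := by
      rw [Matrix.smul_mul, Matrix.mul_smul, hXX, smul_smul, smul_smul]
      rw [show s⁻¹ * s⁻¹ * (s * s) = 1 by field_simp, one_smul]
    obtain ⟨T, v, hT, hv, hYT⟩ := exists_diag_of_invol h2 hYY
    set S := Finset.univ.filter fun i => v i = -1
    have hneg1 : (-1 : F) ≠ 1 := fun h => h2 (by linear_combination -h)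
    have hvS : ∀ i, v i = if i ∈ S then -1 else 1 := by
      intro i
      rcases hv i with h | h
      · rw [if_neg (by simp [S, h, Ne.symm hneg1]), h]
      · rw [if_pos (by simp [S, h]), h]
    have hdet : s ^ n * (-1) ^ S.card = 1 := by
      have h1 := congrArg Matrix.det hYT
      rw [Matrix.det_mul, Matrix.det_mul, mul_comm] at h1
      have h3 := mul_left_cancel₀ hT.ne_zero h1
      rw [Matrix.det_smul, hdetX, mul_one, Fintype.card_fin, Matrix.det_diagonal] at h3
      have h4 : ∏ i, v i = (-1 : F) ^ S.card := by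
        simp only [hvS]
        rw [Finset.prod_ite, Finset.prod_const, Finset.prod_const_one, mul_one]
        congr 2
        ext i; simp
      rw [← h4, ← h3, ← mul_pow, mul_inv_cancel₀ hs, one_pow]
    have hev : Even S.card := by
      rcases Nat.even_or_odd S.card with h | h
      · exact h
      · exfalso
        rw [h.neg_one_pow] at hdet
        exact hpar ⟨s, by linear_combination -hdet⟩
    obtain ⟨m, hm⟩ := hev
    have hSn : S.card ≤ n := by simpa using S.card_le_univ
    set w : Fin n → F := fun i => if ((e i).2 : ℕ) < m then -1 else 1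
    set S' := Finset.univ.filter fun i : Fin n => ((e i).2 : ℕ) < m
    have hS' : S'.card = S.card := by
      have e1 : S' = (Finset.univ ×ˢ (Finset.univ.filter fun k : Fin b => (k : ℕ) < m)).map
          e.symm.toEmbedding := by
        ext i; simp [S']
      rw [e1, Finset.card_map, Finset.card_product, Finset.card_univ, Fintype.card_fin, hm]
      rw [show (Finset.univ.filter fun k : Fin b => (k : ℕ) < m).card = m by
        rw [← Fintype.card_subtype]
        rw [Fintype.card_of_bijective (f := fun k : {k : Fin b // (k : ℕ) < m} => (⟨k.1, k.2⟩ : Fin m))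
          ⟨fun k l h => Subtype.ext (Fin.ext (congrArg (fun y : Fin m => (y : ℕ)) h)),
            fun k => ⟨⟨⟨k, by omega⟩, k.2⟩, rfl⟩⟩]
        simp]
      omega
    let π : Equiv.Perm (Fin n) := (Finset.equivOfCardEq hS').extendSubtype
    have hw : ∀ i, v (π i) = w i := by
      intro i
      rw [hvS]
      by_cases hi : i ∈ S'
      · rw [if_pos ((Finset.equivOfCardEq hS').extendSubtype_mem i hi)]
        simp [w, (Finset.mem_filter.1 hi).2]
      · rw [if_neg ((Finset.equivOfCardEq hS').extendSubtype_not_mem i hi)]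
        have : ¬ ((e i).2 : ℕ) < m := fun h => hi (by simp [S', h])
        simp only [w, this, if_false]
    have hk : kmat e (1 : Matrix (Fin 2) (Fin 2) F)
        (Matrix.diagonal fun k : Fin b => s * if (k : ℕ) < m then -1 else 1) =
          Matrix.diagonal fun i => s * w i := by
      rw [kmat, ← Matrix.diagonal_one, Matrix.diagonal_kronecker_diagonal,
        Matrix.submatrix_diagonal_equiv]
      congr 1
      funext i
      simp [w]
    refine ⟨T.submatrix id π, 1, Matrix.diagonal fun k : Fin b => s * if (k : ℕ) < m then -1 else 1,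
      ?_, by simp, ?_, ?_, ?_⟩
    · rw [Matrix.det_permute']
      exact IsUnit.mul (by rcases Int.units_eq_one_or (Equiv.Perm.sign π) with h | h <;> simp [h]) hT
    · rw [Matrix.det_diagonal, isUnit_iff_ne_zero]
      exact Finset.prod_ne_zero_iff.2 fun k _ => mul_ne_zero hs (by split <;> simp)
    · rw [hk]
      ext i j
      rw [Matrix.mul_diagonal, Matrix.mul_apply]
      have h1 := congrFun (congrFun hYT i) (π j)
      rw [Matrix.mul_diagonal, Matrix.mul_apply, hw] at h1
      simp only [Y, Matrix.smul_apply, smul_eq_mul, mul_assoc, ← Finset.mul_sum] at h1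
      simp only [Matrix.submatrix_apply, id_eq]
      rw [← mul_left_comm, ← h1, ← mul_assoc, mul_inv_cancel₀ hs, one_mul]
    · intro δ hδ
      rw [hk]
      refine ⟨Matrix.diagonal (Function.update 1 (e.symm (0, ⟨0, by
        by_contra h0
        exact hxns 1 (by ext i; exact absurd i.2 (by omega))⟩)) δ), ?_, ?_⟩
      · rw [Matrix.det_diagonal, Finset.prod_update_of_mem (Finset.mem_univ _)]
        simp
      · rw [Matrix.diagonal_mul_diagonal, Matrix.diagonal_mul_diagonal]
        simp [mul_comm]
  · obtain ⟨v, hv⟩ := exists_basis_of_nonsquare hsq hXX b (by omega)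
    set A : Matrix (Fin 2) (Fin 2) F := !![0, z; 1, 0] with hA
    have hz0 : z ≠ 0 := fun h => hsq (h ▸ IsSquare.zero)
    set T : Matrix (Fin n) (Fin n) F := Matrix.of fun i j =>
      (if (e j).1 = 0 then v (e j).2 else X *ᵥ v (e j).2) i
    refine ⟨T, A, 1, ?_, by simp [hA, Matrix.det_fin_two, hz0], by simp, ?_, ?_⟩
    · have hli : LinearIndependent F T.col := hv.comp e e.injective
      exact (Matrix.isUnit_iff_isUnit_det _).1 (Matrix.linearIndependent_cols_iff_isUnit.1 hli)
    · ext i j
      rw [Matrix.mul_apply, Matrix.mul_apply, ← Equiv.sum_comp e.symm (fun k => T i k * kmat e A 1 k j),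
        Fintype.sum_prod_type, Fin.sum_univ_two]
      simp only [kmat, Matrix.submatrix_apply, Equiv.apply_symm_apply, Matrix.kroneckerMap_apply,
        Matrix.one_apply, mul_ite, mul_one, mul_zero, Finset.sum_ite_eq', Finset.mem_univ, if_true, T,
        Matrix.of_apply]
      show (X *ᵥ fun k => (if (e j).1 = 0 then v (e j).2 else X *ᵥ v (e j).2) k) i = _
      rcases hj : e j with ⟨j₁, j₂⟩
      fin_cases j₁ <;> simp [hA, Matrix.mulVec_mulVec, hXX, Matrix.smul_mulVec, mul_comm z]
    · intro δ hδ
      obtain ⟨u, w, huw⟩ : ∃ u w : F, u * u - z * (w * w) = δ := by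
        obtain ⟨u, w, h⟩ := FiniteField.exists_root_sum_quadratic
          (f := Polynomial.X ^ 2 - Polynomial.C δ) (g := -(Polynomial.C z * Polynomial.X ^ 2))
          (Polynomial.degree_X_pow_sub_C two_pos δ)
          (by rw [Polynomial.degree_neg, Polynomial.degree_C_mul_X_pow 2 hz0]; rfl)
          (FiniteField.odd_card_of_char_ne_two fun h => h2 (by
            have h' := ringChar.Nat.cast_ringChar (R := F)
            rw [h] at h'
            exact_mod_cast h'))
        refine ⟨u, w, ?_⟩
        simp only [Polynomial.eval_sub, Polynomial.eval_pow, Polynomial.eval_X, Polynomial.eval_C,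
          Polynomial.eval_neg, Polynomial.eval_mul] at h
        linear_combination h
      have hb0 : 0 < b := by
        by_contra h0
        exact hxns 1 (by ext i; exact absurd i.2 (by omega))
      refine ⟨(Matrix.blockDiagonal fun k : Fin b =>
        if k = ⟨0, hb0⟩ then !![u, z * w; w, u] else 1).submatrix e e, ?_, ?_⟩
      · rw [Matrix.det_submatrix_equiv_self, Matrix.det_blockDiagonal,
          Finset.prod_eq_single_of_mem (⟨0, hb0⟩ : Fin b) (Finset.mem_univ _)
            (fun k _ hk => by rw [if_neg hk, Matrix.det_one]), if_pos rfl, Matrix.det_fin_two_of,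
          ← huw]
        ring
      · rw [kmat, Matrix.kronecker_one, Matrix.submatrix_mul_equiv, Matrix.submatrix_mul_equiv,
          ← Matrix.blockDiagonal_mul, ← Matrix.blockDiagonal_mul]
        congr 2
        funext k
        split
        · ext i j
          fin_cases i <;> fin_cases j <;> simp [hA, Matrix.mul_apply, Fin.sum_univ_two] <;> ring
        · simp

end Cfsg.Agent.Lib.TensorDerange
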